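import Groth.Prelude.Def_NonAbH2
import Groth.Prelude.Def_ActBC
import Groth.Agent.TorsFpqcLib.Basic
import Groth.Agent.RichLib.LimitDescent
import Mathlib.RingTheory.Flat.EquationalCriterion
import Mathlib.CategoryTheory.Monoidal.Cartesian.GrpLimits

/-!
# Cofiltered limits of flat, surjective affine schemes over a base, and points of pseudo-torsors
-/

set_option autoImplicit false
set_option backward.isDefEq.respectTransparency false
set_option linter.style.haveILetI false

noncomputable section

universe u

open CategoryTheory CategoryTheory.Limits MonoidalCategory CartesianMonoidalCategory AlgebraicGeometry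
open RichLib.LimBC

namespace Groth.Agent.TorsLim

variable {I : Type u} [SmallCategory I] [IsCofiltered I] {S : Scheme.{u}} (A : Sys I S)

/-- A ring map is flat if every relation comes from a flat stage. -/
theorem ringHom_flat_of_stages {R M : Type u} [CommRing R] [CommRing M] (φ : R →+* M)
    (H : ∀ (l : ℕ) (f : Fin l → R) (x : Fin l → M), ∑ b, φ (f b) * x b = 0 →
      ∃ (N : Type u) (_ : CommRing N) (ψ : R →+* N) (π : N →+* M) (y : Fin l → N),
        ψ.Flat ∧ π.comp ψ = φ ∧ (∀ b, π (y b) = x b) ∧ ∑ b, ψ (f b) * y b = 0) : φ.Flat := by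
  letI := φ.toAlgebra
  refine Module.Flat.of_forall_isTrivialRelation fun {l f x} hfx => ?_
  obtain ⟨N, _, ψ, π, y, hψ, hπ, hy, h0⟩ := H l f x (by
    simpa only [Algebra.smul_def, RingHom.algebraMap_toAlgebra] using hfx)
  letI := ψ.toAlgebra
  haveI : Module.Flat R N := hψ
  obtain ⟨n, c, z, hz, hc⟩ := Module.Flat.isTrivialRelation_of_sum_smul_eq_zero (R := R) (f := f) (x := y) (by
    simpa only [Algebra.smul_def, RingHom.algebraMap_toAlgebra] using h0)
  refine ⟨n, c, fun k => π (z k), fun b => ?_, hc⟩
  rw [← hy b, hz b, map_sum]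
  refine Finset.sum_congr rfl fun k _ => ?_
  rw [Algebra.smul_def, Algebra.smul_def, map_mul, RingHom.algebraMap_toAlgebra, RingHom.algebraMap_toAlgebra,
    ← RingHom.comp_apply, hπ]

/-- A limit of flat affine schemes over an affine base is flat. -/
theorem flat_affine [IsAffine S] (h : ∀ i, Flat (A.t i)) : Flat A.s := by
  haveI := A.affine_s
  haveI : IsAffine A.c.pt := isAffine_of_isAffineHom A.s
  haveI := A.isAffine_obj
  rw [HasRingHomProperty.iff_of_isAffine (P := @Flat)]
  refine ringHom_flat_of_stages _ fun l f x hfx => ?_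
  obtain ⟨i, hi⟩ := exists_stage (ι := ULift.{u} (Fin l))
    (fun b i => ∃ y : Γ(A.D.obj i, ⊤), (A.c.π.app i).appTop.hom y = x b.down)
    (fun b {i j} a ⟨y, hy⟩ => ⟨(A.D.map a).appTop.hom y, by
      refine Eq.trans ?_ hy
      rw [← A.c.w a]
      exact (appTop_comp _ _ _).symm⟩)
    (fun b => exists_appTop_π_eq A (x b.down))
  choose y hy using fun b : Fin l => hi ⟨b⟩
  have hker : (A.c.π.app i).appTop.hom (∑ b, (A.t i).appTop.hom (f b) * y b) = 0 := by
    rw [map_sum]
    refine Eq.trans (Finset.sum_congr rfl fun b _ => ?_) hfx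
    rw [map_mul, hy, ← appTop_comp, A.hs]
    rfl
  obtain ⟨j, a, hj⟩ := exists_appTop_map_eq_zero_of_isAffine_of_isLimit A.D A.c A.hc i _ hker
  refine ⟨Γ(A.D.obj j, ⊤), inferInstance, (A.t j).appTop.hom, (A.c.π.app j).appTop.hom,
    fun b => (A.D.map a).appTop.hom (y b), (HasRingHomProperty.iff_of_isAffine (P := @Flat)).1 (h j), ?_, fun b => ?_, ?_⟩
  · rw [← CommRingCat.hom_comp, ← Scheme.Hom.comp_appTop, A.hs]
  · refine Eq.trans ?_ (hy b)
    rw [← A.c.w a]
    exact (appTop_comp _ _ _).symm
  · refine Eq.trans ?_ hj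
    rw [map_sum]
    refine Finset.sum_congr rfl fun b _ => ?_
    rw [map_mul, ← appTop_comp (A.D.map a) (A.t i), A.w a]

/-- A limit of flat affine schemes is flat. -/
theorem flat (h : ∀ i, Flat (A.t i)) : Flat A.s := by
  refine IsZariskiLocalAtTarget.of_iSup_eq_top (fun U : S.affineOpens => U.1) (iSup_affineOpens_eq_top S) fun U => ?_
  haveI : IsAffine (U.1 : Scheme.{u}) := U.2
  have h1 : Flat (pb A U.1.ι).s := flat_affine _ fun i => MorphismProperty.pullback_fst _ _ (h i)
  have e := (IsPullback.of_hasPullback U.1.ι A.s).flip.isoIsPullback_hom_snd _ _ (isPullback_morphismRestrict A.s U.1).flip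
  have e' : (pb A U.1.ι).s = pullback.fst U.1.ι A.s := rfl
  rw [e', ← e] at h1
  exact (MorphismProperty.cancel_left_of_respectsIso @Flat _ _).1 h1

/-- A limit of affine schemes which are surjective over a base is surjective. -/
theorem surjective (h : ∀ i, Surjective (A.t i)) : Surjective A.s := by
  refine ⟨fun x => ?_⟩
  let B := pb A (S.fromSpecResidueField x)
  haveI : ∀ {i j : I} (f : i ⟶ j), IsAffineHom (B.D.map f) := fun f => B.affine_map f
  haveI := B.compactSpace_obj
  haveI : ∀ i, Nonempty (B.D.obj i) := fun i => by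
    haveI : Surjective (B.t i) := MorphismProperty.pullback_fst _ _ (h i)
    exact ⟨((B.t i).surjective (IsLocalRing.closedPoint (S.residueField x))).choose⟩
  obtain ⟨p⟩ : Nonempty B.c.pt := Scheme.nonempty_of_isLimit B.D B.c B.hc
  refine ⟨pullback.snd (S.fromSpecResidueField x) A.s p, ?_⟩
  rw [← Scheme.Hom.comp_apply, ← pullback.condition, Scheme.Hom.comp_apply]
  exact Scheme.fromSpecResidueField_apply x _

/-- The system of a cofiltered diagram of schemes affine over a base. -/
def overSys (D : I ⥤ Over S) (hD : ∀ i, IsAffineHom (D.obj i).hom) (c : Cone D) (hc : IsLimit c) : Sys I S where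
  D := D ⋙ Over.forget S
  t i := (D.obj i).hom
  w a := Over.w (D.map a)
  c := (Over.forget S).mapCone c
  hc := haveI := IsCofiltered.isConnected I
    isLimitOfPreserves _ hc
  affine := hD
  s := c.pt.hom
  hs i := Over.w (c.π.app i)

variable {G X : Over S} [GrpObj G]

/-- Two points of a pseudo-torsor differ by a unique point of the group. -/
theorem existsUnique_point (a : AlgGrp.Action G X) (ha : NonAbH1.IsPseudoTorsorSch a) {T : Over S} (p q : T ⟶ X) :
    ∃! g : T ⟶ G, lift g p ≫ a.act = q := by
  haveI : IsIso (lift a.act (snd G X)) := ha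
  let w := lift q p ≫ inv (lift a.act (snd G X))
  have hw : w ≫ lift a.act (snd G X) = lift q p := (Category.assoc _ _ _).trans (by rw [IsIso.inv_hom_id, Category.comp_id])
  rw [comp_lift] at hw
  have h1 : w ≫ a.act = q := by simpa using congrArg (· ≫ fst X X) hw
  have h2 : w ≫ snd G X = p := by simpa using congrArg (· ≫ snd X X) hw
  refine ⟨w ≫ fst G X, ?_, fun g hg => ?_⟩
  · show lift (w ≫ fst G X) p ≫ a.act = q
    rw [← h2, ← comp_lift, lift_fst_snd, Category.comp_id, h1]
  · have h3 : w = lift g p := by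
      rw [← cancel_mono (lift a.act (snd G X)), comp_lift, comp_lift, h1, h2, hg, lift_snd]
    rw [h3, lift_fst]

end Groth.Agent.TorsLim
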