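import Mathlib.CategoryTheory.Monoidal.Cartesian.GrpLimits
import Mathlib.CategoryTheory.Monoidal.Internal.Limits

/-!
# The forgetful functor from group objects preserves those limits which exist below
-/

set_option autoImplicit false
set_option backward.isDefEq.respectTransparency false

noncomputable section

universe w v u

open CategoryTheory CategoryTheory.Limits MonoidalCategory CartesianMonoidalCategory
open scoped MonObj

namespace Groth.Agent.TorsLim

variable {C : Type u} [Category.{v} C] [CartesianMonoidalCategory C] {J : Type w} [Category J]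

theorem inv_aux_left {L M : C} [MonObj L] [GrpObj M] (f : L ⟶ M) [IsMonHom f] (iv : L ⟶ L)
    (h : iv ≫ f = f ≫ ι[M]) : (lift iv (𝟙 L) ≫ μ[L]) ≫ f = (toUnit L ≫ η[L]) ≫ f := by
  simp only [Category.assoc, IsMonHom.mul_hom (f := f), IsMonHom.one_hom (f := f), lift_map_assoc, Category.id_comp]
  rw [h]
  have e := congrArg (f ≫ ·) (GrpObj.left_inv M)
  simp only [comp_lift_assoc, Category.comp_id] at e
  rw [e]
  simp

theorem inv_aux_right {L M : C} [MonObj L] [GrpObj M] (f : L ⟶ M) [IsMonHom f] (iv : L ⟶ L)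
    (h : iv ≫ f = f ≫ ι[M]) : (lift (𝟙 L) iv ≫ μ[L]) ≫ f = (toUnit L ≫ η[L]) ≫ f := by
  simp only [Category.assoc, IsMonHom.mul_hom (f := f), IsMonHom.one_hom (f := f), lift_map_assoc, Category.id_comp]
  rw [h]
  have e := congrArg (f ≫ ·) (GrpObj.right_inv M)
  simp only [comp_lift_assoc, Category.comp_id] at e
  rw [e]
  simp

theorem preservesLimit_forget (F : J ⥤ Grp C) [HasLimit (F ⋙ Grp.forget C)] :
    PreservesLimit F (Grp.forget C) := by
  let F' : J ⥤ Mon C := F ⋙ Grp.forget₂Mon C
  let c : Cone (F' ⋙ Mon.forget C) := limit.cone (F ⋙ Grp.forget C)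
  let hc : IsLimit c := limit.isLimit (F ⋙ Grp.forget C)
  let L : Mon C := Mon.limit F' c hc
  let p : ∀ i, L.X ⟶ (F.obj i).X := fun i => c.π.app i
  let iv : L.X ⟶ L.X := hc.lift
    { pt := c.pt
      π :=
        { app := fun i => p i ≫ ι[(F.obj i).X]
          naturality := fun i j f => by
            have h : p i ≫ (F.map f).hom.hom = p j := c.w f
            show 𝟙 L.X ≫ p j ≫ ι[(F.obj j).X] = (p i ≫ ι[(F.obj i).X]) ≫ (F.map f).hom.hom
            rw [Category.id_comp, Category.assoc, GrpObj.inv_hom (F.map f).hom.hom, ← Category.assoc, h] } }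
  have hiv : ∀ i, iv ≫ p i = p i ≫ ι[(F.obj i).X] := fun i => hc.fac _ i
  haveI : ∀ i, IsMonHom (M := L.X) (N := (F.obj i).X) (p i) := fun i =>
    ((Mon.limitCone F' c hc).π.app i).isMonHom_hom
  letI : GrpObj L.X :=
    { inv := iv
      left_inv := hc.hom_ext fun i => inv_aux_left (p i) iv (hiv i)
      right_inv := hc.hom_ext fun i => inv_aux_right (p i) iv (hiv i) }
  let LG : Grp C := ⟨L.X⟩
  let cG : Cone F :=
    { pt := LG
      π :=
        { app := fun i => Grp.homMk'' (p i) (IsMonHom.one_hom (p i))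
            (IsMonHom.mul_hom (p i))
          naturality := fun i j f => Grp.hom_ext _ _ (c.π.naturality f) } }
  have h1 : IsLimit ((Grp.forget₂Mon C).mapCone cG) :=
    IsLimit.ofIsoLimit (Mon.limitConeIsLimit F' c hc) (Cone.ext (Iso.refl _) fun i => by
      apply Mon.Hom.ext'
      simp [cG, p])
  exact preservesLimit_of_preserves_limit_cone (isLimitOfReflects (Grp.forget₂Mon C) h1)
    (IsLimit.ofIsoLimit hc (Cone.ext (Iso.refl _) fun i => by simp [cG, c, p]))

end Groth.Agent.TorsLim
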