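import Groth.Agent.TorsLimLib.Coeff
import Groth.Agent.RCentreLib.Weights

/-!
# Group algebras: reduction of scalars, quotients and the diagonal
-/

set_option autoImplicit false
set_option linter.style.haveILetI false
set_option backward.isDefEq.respectTransparency false

noncomputable section

universe u

open CategoryTheory MonoidalCategory CartesianMonoidalCategory AlgebraicGeometry CoactBr WithConv
open scoped MonObj TensorProduct

attribute [-instance] CategoryTheory.Hom.commGroup

namespace Groth.Agent.TorsLim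

attribute [local instance] CoactBr.braidedAlgSpecOf

variable {A : Type u} [CommRing A] (J : Ideal A) {G H : Type} [CommGroup G] [CommGroup H]

/-- Reduction of the scalars. -/
abbrev red (X : Type) [CommGroup X] : MonoidAlgebra A X →ₐ[A] MonoidAlgebra (A ⧸ J) X :=
  MonoidAlgebra.mapAlgHom X (Algebra.ofId A (A ⧸ J))

theorem red_surjective (X : Type) [CommGroup X] : Function.Surjective (red J X) := by
  intro x
  obtain ⟨y, hy⟩ := MonoidAlgebra.map_surjective (M := X) (Ideal.Quotient.mk J).toAddMonoidHom
    Ideal.Quotient.mk_surjective x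
  exact ⟨y, MonoidAlgebra.ext (Finsupp.ext fun m => by
    rw [MonoidAlgebra.coeff_mapAlgHom, ← hy, MonoidAlgebra.coeff_map, Finsupp.mapRange_apply]; rfl)⟩

theorem ker_red_pow {n : ℕ} (hJ : J ^ n = ⊥) (X : Type) [CommGroup X] :
    RingHom.ker (red J X).toRingHom ^ n = ⊥ := by
  classical
  have hle : RingHom.ker (red J X).toRingHom ≤ J.map (algebraMap A (MonoidAlgebra A X)) := by
    intro x hx
    have hco : ∀ m, x.coeff m ∈ J := fun m => by
      have h : (red J X x).coeff m = 0 := by
        rw [show red J X x = 0 from hx]; rfl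
      rw [MonoidAlgebra.coeff_mapAlgHom] at h
      exact Ideal.Quotient.eq_zero_iff_mem.1 h
    rw [← MonoidAlgebra.sum_coeff_single x]
    refine Ideal.sum_mem _ fun m _ => ?_
    have e : MonoidAlgebra.single m (x.coeff m) =
        algebraMap A (MonoidAlgebra A X) (x.coeff m) * MonoidAlgebra.single m 1 := by
      simp [MonoidAlgebra.single_mul_single]
    rw [e]
    exact Ideal.mul_mem_right _ _ (Ideal.mem_map_of_mem _ (hco m))
  refine eq_bot_iff.2 ?_
  refine (Ideal.pow_right_mono hle n).trans ?_
  rw [← Ideal.map_pow, hJ, Ideal.map_bot]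

/-- A change of group, on algebras. -/
abbrev push (R : Type u) [CommRing R] [Algebra A R] (f : G →* H) : MonoidAlgebra R G →ₐ[A] MonoidAlgebra R H :=
  MonoidAlgebra.mapDomainAlgHom A R f

theorem red_push (f : G →* H) : (red J H).comp (push A f) = (push (A := A) (A ⧸ J) f).comp (red J G) :=
  AlgHom.toLinearMap_injective ((MonoidAlgebra.basis _ A).ext fun m => by simp)

theorem push_comp {K : Type} [CommGroup K] (g : H →* K) (f : G →* H) :
    (push (A := A) A g).comp (push A f) = push A (g.comp f) :=
  AlgHom.toLinearMap_injective ((MonoidAlgebra.basis _ A).ext fun m => by simp)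

theorem isMonHom_push (f : G →* H) : IsMonHom (pt (push (A := A) A f)) := by
  refine DiagRep.isMonHom_pt _ (AlgHom.toLinearMap_injective ((MonoidAlgebra.basis _ A).ext fun m => ?_))
    (AlgHom.toLinearMap_injective ((MonoidAlgebra.basis _ A).ext fun m => ?_))
  · simp
  · simp [Bialgebra.comulAlgHom_apply]

theorem comul_eq_conv : Bialgebra.comulAlgHom A (MonoidAlgebra A G) =
    (toConv (Algebra.TensorProduct.includeLeft : MonoidAlgebra A G →ₐ[A] MonoidAlgebra A G ⊗[A] MonoidAlgebra A G) *
      toConv Algebra.TensorProduct.includeRight).ofConv := by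
  refine AlgHom.toLinearMap_injective ((MonoidAlgebra.basis _ A).ext fun m => ?_)
  rw [MonoidAlgebra.basis_apply]
  show Coalgebra.comul (R := A) (MonoidAlgebra.single m (1 : A)) =
    (toConv (Algebra.TensorProduct.includeLeft : MonoidAlgebra A G →ₐ[A] MonoidAlgebra A G ⊗[A] MonoidAlgebra A G) *
      toConv (Algebra.TensorProduct.includeRight : MonoidAlgebra A G →ₐ[A] MonoidAlgebra A G ⊗[A] MonoidAlgebra A G))
        (MonoidAlgebra.single m 1)
  rw [MonoidAlgebra.convMul_algHom_single_one, MonoidAlgebra.comul_single]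
  simp

/-- Multiplication of the universal pair of points. -/
theorem pt_comul : pt (Bialgebra.comulAlgHom A (MonoidAlgebra A G)) =
    pt (Algebra.TensorProduct.includeLeft : MonoidAlgebra A G →ₐ[A] MonoidAlgebra A G ⊗[A] MonoidAlgebra A G) *
      pt Algebra.TensorProduct.includeRight := by
  rw [DiagRep.pt_mul_conv, comul_eq_conv]

/-- Two elements of a double group algebra agreeing in all quotients agree. -/
theorem ext₂_of_forall {N : ℕ → Type} [∀ k, CommGroup (N k)] (π : ∀ k, G →* N k)
    (hsep : ∀ s : Finset G, ∃ k, ∀ l, k ≤ l → Set.InjOn (π l) s)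
    {x y : MonoidAlgebra A G ⊗[A] MonoidAlgebra A G}
    (h : ∀ k, Algebra.TensorProduct.map (push (A := A) A (π k)) (push (A := A) A (π k)) x =
      Algebra.TensorProduct.map (push (A := A) A (π k)) (push (A := A) A (π k)) y) : x = y := by
  classical
  rw [← sub_eq_zero]
  generalize hz : x - y = z
  have hz' : ∀ k, Algebra.TensorProduct.map (push (A := A) A (π k)) (push (A := A) A (π k)) z = 0 := fun k => by
    rw [← hz, map_sub, h k, sub_self]
  obtain ⟨c, rfl⟩ := TensorProduct.eq_repr_basis_left (MonoidAlgebra.basis G A) z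
  obtain ⟨k₀, hk₀⟩ := hsep c.support
  refine Finset.sum_eq_zero fun m hm => ?_
  suffices hc : c m = 0 by simp [hc]
  obtain ⟨k₁, hk₁⟩ := hsep (c m).coeff.support
  have hk := hz' (max k₀ k₁)
  generalize max k₀ k₁ = K, le_max_left k₀ k₁ = h0, le_max_right k₀ k₁ = h1 at hk
  refine MonoidAlgebra.ext (Finsupp.ext fun m' => ?_)
  by_contra hne
  have hm' : m' ∈ (c m).coeff.support := Finsupp.mem_support_iff.2 (by simpa using hne)
  let Φ : MonoidAlgebra A (N K) ⊗[A] MonoidAlgebra A (N K) →ₗ[A] A :=
    LinearMap.mul' A A ∘ₗ TensorProduct.map (coordAt (π K m)) (coordAt (π K m'))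
  have hΦ := congrArg Φ hk
  rw [map_zero, Finsupp.sum, map_sum, map_sum, Finset.sum_eq_single m] at hΦ
  · simp only [Φ, LinearMap.comp_apply, Algebra.TensorProduct.map_tmul, TensorProduct.map_tmul,
      LinearMap.mul'_apply, coordAt_apply, MonoidAlgebra.basis_apply, MonoidAlgebra.mapDomainAlgHom_apply,
      MonoidAlgebra.mapDomain_single, MonoidAlgebra.coeff_single, Finsupp.single_eq_same, one_mul] at hΦ
    simp only [MonoidAlgebra.mapDomain] at hΦ
    rw [Finsupp.mapDomain_apply' (↑(c m).coeff.support) _ subset_rfl (hk₁ K h1) hm'] at hΦ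
    exact hne (by simpa using hΦ)
  · intro b hb hbm
    simp only [Φ, LinearMap.comp_apply, Algebra.TensorProduct.map_tmul, TensorProduct.map_tmul,
      LinearMap.mul'_apply, coordAt_apply, MonoidAlgebra.basis_apply, MonoidAlgebra.mapDomainAlgHom_apply,
      MonoidAlgebra.mapDomain_single, MonoidAlgebra.coeff_single, Finsupp.single_apply]
    rw [if_neg fun e => hbm (hk₀ K h0 hb hm e), zero_mul]
  · exact fun h' => absurd hm h'

end Groth.Agent.TorsLim
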