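import Mathlib
import Groth.Agent.ChevLib.Main

/-!
# Infinitesimal neighbourhoods of affine closed subschemes
-/

set_option autoImplicit false
set_option linter.style.haveILetI false

noncomputable section

universe u

open CategoryTheory CategoryTheory.Limits AlgebraicGeometry

namespace Groth.Agent.TorsLim

/-- Nilpotence of the kernel of a closed immersion bounds the kernels of the morphisms it reduces. -/
theorem pow_le_ker {Z Z₀ W T₀ : Scheme.{u}} (c : Z₀ ⟶ Z) [IsClosedImmersion c] (n : ℕ) (hn : c.ker ^ n = ⊥)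
    (g : Z ⟶ W) (h : Z₀ ⟶ T₀) (j : T₀ ⟶ W) (w : h ≫ j = c ≫ g) : j.ker ^ n ≤ g.ker := by
  refine Scheme.IdealSheafData.le_ofIdeals_iff.2 fun U => ?_
  have h0 : (RingHom.ker (c.app (g ⁻¹ᵁ U.1)).hom) ^ n = ⊥ := by
    refine (eq_bot_iff).2 fun x hx => (Ideal.mem_bot).2 ?_
    refine Z.sheaf.eq_of_locally_eq' (fun V : {V : Z.affineOpens // V.1 ≤ g ⁻¹ᵁ U.1} => V.1.1) _
      (fun V => homOfLE V.2) (fun z hz => ?_) x 0 fun V => ?_
    · obtain ⟨V, hV, hzV, hle⟩ := exists_isAffineOpen_mem_and_subset hz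
      exact TopologicalSpace.Opens.mem_iSup.2 ⟨⟨⟨V, hV⟩, hle⟩, hzV⟩
    · refine Eq.trans ?_ (RingHom.map_zero _).symm
      have hmem : (Z.presheaf.map (homOfLE V.2).op).hom x ∈ (c.ker ^ n).ideal V.1 := by
        rw [Scheme.IdealSheafData.ideal_pow, Pi.pow_apply]
        have hle : (RingHom.ker (c.app (g ⁻¹ᵁ U.1)).hom).map (Z.presheaf.map (homOfLE V.2).op).hom ≤
            c.ker.ideal V.1 := by
          rw [Ideal.map_le_iff_le_comap, Scheme.Hom.ker_apply]
          intro y hy
          rw [Ideal.mem_comap, RingHom.mem_ker, ← CommRingCat.comp_apply, c.naturality, CommRingCat.comp_apply,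
            RingHom.mem_ker.1 hy, map_zero]
        have hm := Ideal.mem_map_of_mem (Z.presheaf.map (homOfLE V.2).op).hom hx
        rw [Ideal.map_pow] at hm
        exact Ideal.pow_right_mono hle n hm
      rw [hn, Scheme.IdealSheafData.ideal_bot] at hmem
      exact Ideal.mem_bot.1 hmem
  rw [Scheme.IdealSheafData.ideal_pow, Pi.pow_apply]
  have hI : j.ker.ideal U ≤ (RingHom.ker (c.app (g ⁻¹ᵁ U.1)).hom).comap (g.app U.1).hom := by
    intro y hy
    have hy' := j.ideal_ker_le U hy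
    rw [Ideal.mem_comap, RingHom.mem_ker]
    have e : (c ≫ g).app U.1 y = 0 := by
      rw [Scheme.Hom.congr_app w.symm U.1, Scheme.Hom.comp_app]
      show (Z₀.presheaf.map _).hom ((h.app (j ⁻¹ᵁ U.1)).hom ((j.app U.1).hom y)) = 0
      rw [RingHom.mem_ker.1 hy']
      exact (congrArg _ (RingHom.map_zero _)).trans (RingHom.map_zero _)
    rw [Scheme.Hom.comp_app] at e
    exact e
  intro y hy
  rw [RingHom.mem_ker, ← Ideal.mem_bot, ← h0]
  exact Ideal.le_comap_pow _ n (Ideal.pow_right_mono hI n hy)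

variable {W T₀ : Scheme.{u}} (j : T₀ ⟶ W) [IsClosedImmersion j] (n : ℕ)

/-- The `n`-th infinitesimal neighbourhood. -/
abbrev nbd : Scheme.{u} := (j.ker ^ n).subscheme

/-- Its embedding. -/
abbrev nbdι : nbd j n ⟶ W := (j.ker ^ n).subschemeι

instance : IsClosedImmersion (nbdι j n) := inferInstanceAs (IsClosedImmersion (j.ker ^ n).subschemeι)

theorem pow_le_self (hn : n ≠ 0) : j.ker ^ n ≤ j.ker := fun U => by
  rw [Scheme.IdealSheafData.ideal_pow, Pi.pow_apply]
  exact Ideal.pow_le_self hn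

/-- Morphisms reducing into the closed subscheme factor through the neighbourhood. -/
theorem exists_lift_nbd {Z Z₀ : Scheme.{u}} (c : Z₀ ⟶ Z) [IsClosedImmersion c] (hc : c.ker ^ n = ⊥)
    (g : Z ⟶ W) (h : Z₀ ⟶ T₀) (w : h ≫ j = c ≫ g) : ∃ l : Z ⟶ nbd j n, l ≫ nbdι j n = g :=
  ⟨IsClosedImmersion.lift (nbdι j n) g (by
    rw [nbdι, Scheme.IdealSheafData.ker_subschemeι]; exact pow_le_ker c n hc g h j w), IsClosedImmersion.lift_fac _ _ _⟩

/-- The closed subscheme in its neighbourhood. -/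
def toNbd (hn : n ≠ 0) : T₀ ⟶ nbd j n :=
  IsClosedImmersion.lift (nbdι j n) j (by rw [nbdι, Scheme.IdealSheafData.ker_subschemeι]; exact pow_le_self j n hn)

theorem toNbd_ι (hn : n ≠ 0) : toNbd j n hn ≫ nbdι j n = j := IsClosedImmersion.lift_fac _ _ _

instance (hn : n ≠ 0) : IsClosedImmersion (toNbd j n hn) := by
  haveI : IsClosedImmersion (toNbd j n hn ≫ nbdι j n) := by rw [toNbd_ι]; infer_instance
  exact IsClosedImmersion.of_comp _ (nbdι j n)

theorem surjective_toNbd (hn : n ≠ 0) : Surjective (toNbd j n hn) := ⟨fun x => by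
  have h1 : nbdι j n x ∈ (Set.range (nbdι j n) : Set W) := Set.mem_range_self x
  rw [nbdι, Scheme.IdealSheafData.range_subschemeι, Scheme.IdealSheafData.support_pow _ _ hn,
    Scheme.Hom.support_ker,
    j.isClosedEmbedding.isClosed_range.closure_eq] at h1
  obtain ⟨y, hy⟩ := h1
  refine ⟨y, (nbdι j n).isClosedEmbedding.injective ?_⟩
  rw [← Scheme.Hom.comp_apply, toNbd_ι]
  exact hy⟩

/-- The neighbourhoods of an affine closed subscheme are affine. -/
theorem isAffine_nbd [IsAffine T₀] (hn : n ≠ 0) : IsAffine (nbd j n) := by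
  haveI := surjective_toNbd j n hn
  exact ChevLib.isAffine_of_surjective_universallyClosed (toNbd j n hn)

/-- The kernel of the closed subscheme in its neighbourhood is nilpotent. -/
theorem ker_toNbd_pow (hn : n ≠ 0) : (toNbd j n hn).ker ^ n = ⊥ := by
  refine eq_bot_iff.2 (Scheme.IdealSheafData.le_of_iSup_eq_top
    (ι := W.affineOpens) (fun U => ⟨nbdι j n ⁻¹ᵁ U.1, U.2.preimage (nbdι j n)⟩) ?_ fun U => ?_)
  · refine eq_top_iff.2 fun z _ => ?_
    obtain ⟨V, hV, hzV, -⟩ := exists_isAffineOpen_mem_and_subset (X := W) (x := nbdι j n z) (U := ⊤) trivial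
    exact TopologicalSpace.Opens.mem_iSup.2 ⟨⟨V, hV⟩, hzV⟩
  · rw [Scheme.IdealSheafData.ideal_pow, Pi.pow_apply, Scheme.IdealSheafData.ideal_bot, Pi.bot_apply,
      Scheme.Hom.ker_apply]
    have hle : RingHom.ker ((toNbd j n hn).app (nbdι j n ⁻¹ᵁ U.1)).hom ≤
        (j.ker.ideal U).map ((nbdι j n).app U.1).hom := by
      intro a ha
      obtain ⟨y, rfl⟩ := Scheme.IdealSheafData.subschemeι_app_surjective (j.ker ^ n) U a
      refine Ideal.mem_map_of_mem _ ?_
      rw [Scheme.Hom.ker_apply, RingHom.mem_ker, Scheme.Hom.congr_app (toNbd_ι j n hn).symm U.1, Scheme.Hom.comp_app]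
      simp only [CommRingCat.comp_apply]
      rw [RingHom.mem_ker] at ha
      exact (congrArg _ ha).trans (map_zero _)
    refine (Ideal.pow_right_mono hle n).trans ?_
    rw [← Ideal.map_pow, Ideal.map_le_iff_le_comap]
    intro y hy
    rw [Ideal.mem_comap, Ideal.mem_bot, ← RingHom.mem_ker, Scheme.IdealSheafData.ker_subschemeι_app,
      Scheme.IdealSheafData.ideal_pow, Pi.pow_apply]
    exact hy

end Groth.Agent.TorsLim
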