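import Groth.Agent.RCentreLib.Weights
import Groth.Agent.TorsLimLib.Nbd

/-!
# Affine infinitesimal neighbourhoods of immersed affine schemes over an affine base
-/

set_option autoImplicit false
set_option linter.style.haveILetI false
set_option backward.isDefEq.respectTransparency false

noncomputable section

universe u

open CategoryTheory CategoryTheory.Limits MonoidalCategory CartesianMonoidalCategory AlgebraicGeometry CoactBr
open scoped MonObj TensorProduct

attribute [-instance] CategoryTheory.Hom.commGroup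

namespace Groth.Agent.TorsLim

attribute [local instance] CoactBr.braidedAlgSpecOf

variable {A : Type u} [CommRing A]

theorem isClosedImmersion_pt {B C : Type u} [CommRing B] [CommRing C] [Algebra A B] [Algebra A C] (φ : B →ₐ[A] C)
    (hs : Function.Surjective φ) : IsClosedImmersion (pt φ).left :=
  IsClosedImmersion.spec_of_surjective (CommRingCat.ofHom φ.toRingHom) hs

/-- A nilpotent kernel of a surjection of algebras is a nilpotent ideal sheaf. -/
theorem ker_pt_pow {B C : Type u} [CommRing B] [CommRing C] [Algebra A B] [Algebra A C] (φ : B →ₐ[A] C)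
    (hs : Function.Surjective φ) {n : ℕ} (hn : RingHom.ker φ.toRingHom ^ n = ⊥) :
    (pt φ).left.ker ^ n = ⊥ := by
  haveI := isClosedImmersion_pt φ hs
  haveI : IsAffine (sp A B).left := inferInstanceAs (IsAffine (Spec (CommRingCat.of B)))
  refine Scheme.IdealSheafData.ext_of_isAffine ?_
  rw [Scheme.IdealSheafData.ideal_pow, Pi.pow_apply, Scheme.IdealSheafData.ideal_bot, Pi.bot_apply,
    Scheme.Hom.ker_apply]
  have hnat := Scheme.ΓSpecIso_naturality (CommRingCat.ofHom φ.toRingHom)
  have hle : RingHom.ker (pt φ).left.appTop.hom ≤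
      (RingHom.ker φ.toRingHom).comap (Scheme.ΓSpecIso (CommRingCat.of B)).hom.hom := by
    intro x hx
    rw [Ideal.mem_comap, RingHom.mem_ker]
    have h := congrArg (fun r => r.hom x) hnat
    simp only [CommRingCat.hom_comp, RingHom.comp_apply] at h
    refine h.symm.trans ?_
    rw [show ((Spec.map (CommRingCat.ofHom φ.toRingHom)).appTop).hom x = 0 from hx, map_zero]
  refine eq_bot_iff.2 fun x hx => Ideal.mem_bot.2 ?_
  have hx' := Ideal.le_comap_pow _ n (Ideal.pow_right_mono hle n hx)
  rw [Ideal.mem_comap, hn, Ideal.mem_bot] at hx'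
  refine ((ConcreteCategory.bijective_of_isIso (Scheme.ΓSpecIso (CommRingCat.of B)).hom).1 ?_)
  exact hx'.trans (map_zero _).symm

/-- **Affine neighbourhoods.** -/
theorem exists_nbd {H : Over (Spec (CommRingCat.of A))} {O : Type u} [CommRing O] [Algebra A O]
    (gr : sp A O ⟶ H) [IsImmersion gr.left] (n : ℕ) (hn : n ≠ 0) :
    ∃ (B : Type u) (_ : CommRing B) (_ : Algebra A B) (ν : sp A B ⟶ H) (τ : B →ₐ[A] O),
      IsImmersion ν.left ∧ pt τ ≫ ν = gr ∧ Function.Surjective τ ∧ RingHom.ker τ.toRingHom ^ n = ⊥ ∧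
      Set.range ν.left ⊆ Set.range gr.left ∧
      ∀ (C C₀ : Type u) [CommRing C] [CommRing C₀] [Algebra A C] [Algebra A C₀] (φ : C →ₐ[A] C₀),
        Function.Surjective φ → RingHom.ker φ.toRingHom ^ n = ⊥ →
        ∀ (g : sp A C ⟶ H) (h : sp A C₀ ⟶ sp A O), h ≫ gr = pt φ ≫ g → ∃ l : B →ₐ[A] C, pt l ≫ ν = g := by
  let W : H.left.Opens := gr.left.coborderRange
  let j : (sp A O).left ⟶ (W : Scheme.{u}) := gr.left.liftCoborder
  have hj : j ≫ W.ι = gr.left := gr.left.liftCoborder_ι
  haveI : IsClosedImmersion j := inferInstanceAs (IsClosedImmersion gr.left.liftCoborder)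
  let V : Over (Spec (CommRingCat.of A)) := Over.mk (nbdι j n ≫ W.ι ≫ H.hom)
  haveI : IsAffine (sp A O).left := inferInstanceAs (IsAffine (Spec (CommRingCat.of O)))
  haveI : IsAffine V.left := isAffine_nbd j n hn
  letI := RCentre.algΓ V
  let B : Type u := Γ(V.left, ⊤)
  haveI : IsIso (RCentre.toSp V).left := inferInstanceAs (IsIso V.left.toSpecΓ)
  haveI : IsIso (RCentre.toSp V) := by
    haveI : IsIso ((Over.forget _).map (RCentre.toSp V)) := inferInstanceAs (IsIso (RCentre.toSp V).left)
    exact isIso_of_reflects_iso (RCentre.toSp V) (Over.forget _)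
  let e : V ≅ sp A B := asIso (RCentre.toSp V)
  haveI : IsIso e.inv.left := (Over.forget _).map_isIso e.inv
  let νV : V ⟶ H := Over.homMk (nbdι j n ≫ W.ι) (Category.assoc _ _ _)
  let t : sp A O ⟶ V := Over.homMk (toNbd j n hn) (by
    show toNbd j n hn ≫ nbdι j n ≫ W.ι ≫ H.hom = _
    rw [reassoc_of% (toNbd_ι j n hn), reassoc_of% hj]
    exact Over.w gr)
  have ht : t ≫ νV = gr := Over.OverMorphism.ext (by
    show toNbd j n hn ≫ nbdι j n ≫ W.ι = gr.left
    rw [reassoc_of% (toNbd_ι j n hn)]
    exact hj)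
  obtain ⟨τ, hτ⟩ := DiagRep.exists_pt (t ≫ e.hom)
  have hτc : IsClosedImmersion (pt τ).left := by
    rw [← hτ]
    haveI : IsIso e.hom.left := (Over.forget _).map_isIso e.hom
    exact inferInstanceAs (IsClosedImmersion (toNbd j n hn ≫ e.hom.left))
  have hτs : Function.Surjective τ := by
    haveI : IsAffine (sp A B).left := inferInstanceAs (IsAffine (Spec (CommRingCat.of B)))
    haveI : IsAffine (sp A O).left := inferInstanceAs (IsAffine (Spec (CommRingCat.of O)))
    haveI := hτc
    have h : Function.Surjective ((Spec.map (CommRingCat.ofHom τ.toRingHom)).appTop).hom :=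
      (IsClosedImmersion.isAffine_surjective_of_isAffine (f := (pt τ).left)).2
    intro c
    obtain ⟨y, hy⟩ := h ((Scheme.ΓSpecIso (CommRingCat.of O)).inv.hom c)
    refine ⟨(Scheme.ΓSpecIso (CommRingCat.of B)).hom.hom y, ?_⟩
    have h2 := congrArg (fun r => r.hom y) (Scheme.ΓSpecIso_naturality (CommRingCat.ofHom τ.toRingHom))
    simp only [CommRingCat.hom_comp, RingHom.comp_apply] at h2
    refine h2.symm.trans ?_
    rw [hy, ← RingHom.comp_apply, ← CommRingCat.hom_comp, Iso.inv_hom_id]
    rfl
  refine ⟨B, inferInstance, inferInstance, e.inv ≫ νV, τ, ?_, ?_, hτs, ?_, ?_, ?_⟩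
  · exact inferInstanceAs (IsImmersion (e.inv.left ≫ nbdι j n ≫ W.ι))
  · rw [← hτ, Category.assoc, e.hom_inv_id_assoc, ht]
  · have h0 := ker_toNbd_pow j n hn
    refine eq_bot_iff.2 fun x hx => Ideal.mem_bot.2 ?_
    have hinj : Function.Injective (e.hom.left.appTop).hom := by
      haveI : IsIso e.hom.left := (Over.forget _).map_isIso e.hom
      exact (ConcreteCategory.bijective_of_isIso e.hom.left.appTop).1
    let θ : B →+* Γ(V.left, ⊤) :=
      (e.hom.left.appTop).hom.comp (Scheme.ΓSpecIso (CommRingCat.of B)).inv.hom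
    have hθ : Function.Injective θ :=
      hinj.comp (ConcreteCategory.bijective_of_isIso (Scheme.ΓSpecIso (CommRingCat.of B)).inv).1
    have hle : RingHom.ker τ.toRingHom ≤ (RingHom.ker (t.left.appTop).hom).comap θ := by
      intro y hy
      rw [Ideal.mem_comap, RingHom.mem_ker]
      have h1 := congrArg (fun m => Scheme.Hom.appTop (Over.Hom.left m)) hτ
      simp only [Over.comp_left, Scheme.Hom.comp_appTop] at h1
      have h2 := congrArg (fun r => r.hom y) (Scheme.ΓSpecIso_inv_naturality (CommRingCat.ofHom τ.toRingHom))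
      simp only [CommRingCat.hom_comp, RingHom.comp_apply] at h2
      show (t.left.appTop).hom ((e.hom.left.appTop).hom ((Scheme.ΓSpecIso (CommRingCat.of B)).inv.hom y)) = 0
      refine ((congrArg (fun r => r.hom ((Scheme.ΓSpecIso (CommRingCat.of B)).inv.hom y)) h1).trans h2.symm).trans ?_
      rw [show (CommRingCat.ofHom τ.toRingHom).hom y = 0 from hy, map_zero]
    apply hθ
    rw [map_zero]
    have hx' := Ideal.le_comap_pow _ n (Ideal.pow_right_mono hle n hx)
    rw [Ideal.mem_comap] at hx'
    have h3 := congrArg (fun I => I.ideal ⟨⊤, isAffineOpen_top V.left⟩) h0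
    simp only [Scheme.IdealSheafData.ideal_pow, Pi.pow_apply, Scheme.IdealSheafData.ideal_bot, Pi.bot_apply] at h3
    rw [Scheme.Hom.ker_apply] at h3
    exact Ideal.mem_bot.1 (h3.le hx')
  · rintro _ ⟨x, rfl⟩
    haveI := surjective_toNbd j n hn
    obtain ⟨y, hy⟩ := (toNbd j n hn).surjective (e.inv.left x)
    refine ⟨y, ?_⟩
    rw [← congrArg Over.Hom.left ht, Over.comp_left, Scheme.Hom.comp_apply, show t.left y = e.inv.left x from hy]
    rfl
  · intro C C₀ _ _ _ _ φ hφ hker g h hgh
    haveI := isClosedImmersion_pt φ hφ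
    have hsurj : Surjective (pt φ).left := ⟨fun p => by
      have hp : (p : PrimeSpectrum C) ∈ Set.range (PrimeSpectrum.comap φ.toRingHom) := by
        rw [range_comap_of_surjective _ _ hφ]
        refine PrimeSpectrum.mem_zeroLocus _ _ |>.2 fun z hz => ?_
        have hzn : z ^ n = 0 := Ideal.mem_bot.1 (hker ▸ Ideal.pow_mem_pow hz n)
        exact p.2.mem_of_pow_mem n (hzn ▸ Ideal.zero_mem _)
      exact hp⟩
    have hrange : Set.range g.left ⊆ Set.range W.ι := by
      rintro _ ⟨p, rfl⟩
      obtain ⟨p₀, rfl⟩ := (pt φ).left.surjective p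
      refine ⟨j (h.left p₀), ?_⟩
      rw [← Scheme.Hom.comp_apply, hj, ← Scheme.Hom.comp_apply, ← Scheme.Hom.comp_apply]
      exact congrArg (fun m => m p₀) (congrArg Over.Hom.left hgh)
    let gW := IsOpenImmersion.lift W.ι g.left hrange
    have hw : h.left ≫ j = (pt φ).left ≫ gW := by
      rw [← cancel_mono W.ι, Category.assoc, Category.assoc, hj, IsOpenImmersion.lift_fac]
      exact congrArg Over.Hom.left hgh
    obtain ⟨l, hl⟩ := exists_lift_nbd j n (pt φ).left (ker_pt_pow φ hφ hker) gW h.left hw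
    let lV : sp A C ⟶ V := Over.homMk l (by
      show l ≫ nbdι j n ≫ W.ι ≫ H.hom = _
      rw [reassoc_of% hl, IsOpenImmersion.lift_fac_assoc]
      exact Over.w g)
    obtain ⟨l', hl'⟩ := DiagRep.exists_pt (lV ≫ e.hom)
    refine ⟨l', Over.OverMorphism.ext ?_⟩
    rw [← hl', Category.assoc, e.hom_inv_id_assoc]
    show l ≫ nbdι j n ≫ W.ι = g.left
    rw [reassoc_of% hl, IsOpenImmersion.lift_fac]

end Groth.Agent.TorsLim
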