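import Mathlib

/-!
# Compatible families of elements of finite group algebras with small support come from the group algebra

Let `G` be a monoid with a tower of quotients `π k : G →* N k` which eventually separates every finite
set.  A compatible family of algebra homomorphisms `φ k : B →ₐ[A] A[N k]` which is, modulo a nilpotent
ideal, induced by a map to `(A ⧸ J)[G]`, and commutes with the diagonal up to some element of
`B ⊗ B`, is induced by a unique algebra homomorphism to `A[G]`.
-/

set_option autoImplicit false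

noncomputable section

universe u

open scoped TensorProduct

namespace Groth.Agent.TorsLim

variable {A : Type u} [CommRing A] {G : Type} [CommMonoid G] {N : ℕ → Type} [∀ k, CommMonoid (N k)]
  (π : ∀ k, G →* N k)

/-- The coefficient at a point. -/
def coordAt {X : Type} [CommMonoid X] (α : X) : MonoidAlgebra A X →ₗ[A] A :=
  Finsupp.lapply α ∘ₗ (MonoidAlgebra.coeffLinearEquiv A (S := A) (M := X)).toLinearMap

theorem coordAt_apply {X : Type} [CommMonoid X] (α : X) (x : MonoidAlgebra A X) : coordAt α x = x.coeff α := rfl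

/-- The diagonal coefficient at a point. -/
def diagAt {X : Type} [CommMonoid X] (α : X) : MonoidAlgebra A X ⊗[A] MonoidAlgebra A X →ₗ[A] A :=
  LinearMap.mul' A A ∘ₗ TensorProduct.map (coordAt α) (coordAt α)

theorem diagAt_comul {X : Type} [CommMonoid X] (α : X) (x : MonoidAlgebra A X) :
    diagAt α (Coalgebra.comul (R := A) x) = x.coeff α := by
  classical
  have h : diagAt α ∘ₗ (Coalgebra.comul (R := A) : MonoidAlgebra A X →ₗ[A] _) = coordAt α := by
    refine (MonoidAlgebra.basis X A).ext fun y => ?_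
    rw [MonoidAlgebra.basis_apply, LinearMap.comp_apply, MonoidAlgebra.comul_single]
    simp only [CommSemiring.comul_apply, TensorProduct.map_tmul, diagAt, LinearMap.comp_apply, coordAt_apply,
      MonoidAlgebra.lsingle_apply, LinearMap.mul'_apply, MonoidAlgebra.coeff_single, Finsupp.single_apply]
    split_ifs <;> simp
  exact LinearMap.congr_fun h x

/-- The separation hypothesis makes the tower jointly injective. -/
theorem ext_of_forall (hsep : ∀ s : Finset G, ∃ k, ∀ l, k ≤ l → Set.InjOn (π l) s) {x y : MonoidAlgebra A G}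
    (h : ∀ k, x.mapDomain (π k) = y.mapDomain (π k)) : x = y := by
  classical
  obtain ⟨k, hk⟩ := hsep (x.coeff.support ∪ y.coeff.support)
  refine MonoidAlgebra.ext (Finsupp.ext fun m => ?_)
  by_cases hm : m ∈ x.coeff.support ∪ y.coeff.support
  · have h1 := congrArg (fun z => z.coeff (π k m)) (h k)
    simp only [MonoidAlgebra.mapDomain] at h1
    rwa [Finsupp.mapDomain_apply' (↑(x.coeff.support ∪ y.coeff.support)) _
        (by rw [Finset.coe_union]; exact Set.subset_union_left) (hk k le_rfl) hm,
      Finsupp.mapDomain_apply' (↑(x.coeff.support ∪ y.coeff.support)) _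
        (by rw [Finset.coe_union]; exact Set.subset_union_right) (hk k le_rfl) hm] at h1
  · rw [Finset.mem_union, not_or, Finsupp.notMem_support_iff, Finsupp.notMem_support_iff] at hm
    rw [hm.1, hm.2]

/-- A compatible family with supports in the images of a fixed finite set comes from the group algebra. -/
theorem exists_limit (hsep : ∀ s : Finset G, ∃ k, ∀ l, k ≤ l → Set.InjOn (π l) s)
    (ρ : ∀ j k, j ≤ k → (N k →* N j)) (hρ : ∀ j k (h : j ≤ k), (ρ j k h).comp (π k) = π j)
    (c : ∀ k, MonoidAlgebra A (N k)) (hc : ∀ j k (h : j ≤ k), (c k).mapDomain (ρ j k h) = c j)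
    (s : Finset G) (hs : ∀ k α, α ∉ π k '' (s : Set G) → (c k).coeff α = 0) :
    ∃ x : MonoidAlgebra A G, ∀ k, x.mapDomain (π k) = c k := by
  classical
  obtain ⟨k₀, hk₀⟩ := hsep s
  let x : MonoidAlgebra A G := ∑ m ∈ s, MonoidAlgebra.single m ((c k₀).coeff (π k₀ m))
  have key : ∀ k, k₀ ≤ k → x.mapDomain (π k) = c k := by
    intro k hk
    refine MonoidAlgebra.ext (Finsupp.ext fun α => ?_)
    simp only [x, MonoidAlgebra.mapDomain, MonoidAlgebra.coeff_ofCoeff, MonoidAlgebra.coeff_sum,
      MonoidAlgebra.coeff_single, Finsupp.mapDomain_finsetSum, Finsupp.mapDomain_single, Finsupp.finsetSum_apply,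
      Finsupp.single_apply]
    by_cases hα : α ∈ π k '' (s : Set G)
    · obtain ⟨m, hm, rfl⟩ := hα
      rw [Finset.sum_eq_single_of_mem m hm fun b hb hbm => if_neg fun e => hbm (hk₀ k hk hb hm e), if_pos rfl,
        ← hc k₀ k hk, ← hρ k₀ k hk]
      simp only [MonoidAlgebra.mapDomain, MonoidHom.coe_comp, Function.comp_apply, Finsupp.mapDomain,
        Finsupp.sum, Finsupp.finsetSum_apply, Finsupp.single_apply]
      rw [Finset.sum_eq_single (π k m)]
      · rw [if_pos rfl]
      · intro b hb hbm
        refine if_neg fun e => ?_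
        obtain ⟨m', hm', rfl⟩ : b ∈ π k '' (s : Set G) := by
          by_contra hb'
          exact (Finsupp.mem_support_iff.1 hb) (hs k b hb')
        have e' : π k₀ m' = π k₀ m := by
          rw [← hρ k₀ k hk]
          exact e
        exact hbm (congrArg (π k) (hk₀ k₀ le_rfl hm' hm e'))
      · intro hm'
        rw [if_pos rfl, Finsupp.notMem_support_iff.1 hm']
    · rw [hs k α hα]
      exact Finset.sum_eq_zero fun b hb => if_neg fun e => hα ⟨b, hb, e⟩
  refine ⟨x, fun j => ?_⟩
  rw [← hc j (max j k₀) (le_max_left _ _), ← key _ (le_max_right _ _), ← hρ j (max j k₀) (le_max_left _ _)]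
  simp only [MonoidAlgebra.mapDomain, MonoidHom.coe_comp, Finsupp.mapDomain_comp]

/-- **The limit of a compatible family of homomorphisms.** -/
theorem exists_algHom (hsep : ∀ s : Finset G, ∃ k, ∀ l, k ≤ l → Set.InjOn (π l) s)
    (ρ : ∀ j k, j ≤ k → (N k →* N j)) (hρ : ∀ j k (h : j ≤ k), (ρ j k h).comp (π k) = π j)
    {J : Ideal A} {n : ℕ} (hJ : J ^ n = ⊥) {B : Type u} [CommRing B] [Algebra A B]
    (φ : ∀ k, B →ₐ[A] MonoidAlgebra A (N k))
    (hc : ∀ j k (h : j ≤ k) (b : B), (φ k b).mapDomain (ρ j k h) = φ j b)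
    (φ₀ : B → MonoidAlgebra (A ⧸ J) G)
    (hred : ∀ k b, (φ k b).map (Ideal.Quotient.mk J).toAddMonoidHom = (φ₀ b).mapDomain (π k))
    (hΔ : ∀ b, ∃ t : B ⊗[A] B, ∀ k,
      Coalgebra.comul (R := A) (φ k b) = TensorProduct.map (φ k).toLinearMap (φ k).toLinearMap t) :
    ∃ ψ : B →ₐ[A] MonoidAlgebra A G, ∀ k, (MonoidAlgebra.mapDomainAlgHom A A (π k)).comp ψ = φ k := by
  classical
  have hsupp : ∀ (k : ℕ) (y : B) (α : N k), α ∉ π k '' ((φ₀ y).coeff.support : Set G) → (φ k y).coeff α ∈ J := by
    intro k y α hα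
    rw [← Ideal.Quotient.eq_zero_iff_mem]
    have h := congrArg (fun z => z.coeff α) (hred k y)
    simp only [MonoidAlgebra.coeff_map, Finsupp.mapRange_apply, MonoidAlgebra.mapDomain] at h
    refine h.trans (Finsupp.notMem_support_iff.1 fun hmem => hα ?_)
    exact Finset.coe_image (f := π k) (s := (φ₀ y).coeff.support) ▸
      Finset.mem_coe.2 (Finsupp.mapDomain_support hmem)
  have hP : ∀ (i : ℕ) (b : B), ∃ s : Finset G, ∀ (k : ℕ) (α : N k), α ∉ π k '' (s : Set G) →
      (φ k b).coeff α ∈ J ^ i := by
    intro i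
    induction i with
    | zero => exact fun b => ⟨∅, fun k α _ => by rw [pow_zero, Ideal.one_eq_top]; exact Submodule.mem_top⟩
    | succ i ih =>
      rcases Nat.eq_zero_or_pos i with rfl | hi
      · exact fun b => ⟨(φ₀ b).coeff.support, fun k α hα => by rw [zero_add, pow_one]; exact hsupp k b α hα⟩
      intro b
      obtain ⟨t, ht⟩ := hΔ b
      suffices h : ∃ s : Finset G, ∀ (k : ℕ) (α : N k), α ∉ π k '' (s : Set G) →
          diagAt α (TensorProduct.map (φ k).toLinearMap (φ k).toLinearMap t) ∈ J ^ (i + 1) by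
        obtain ⟨s, hs⟩ := h
        exact ⟨s, fun k α hα => by rw [← diagAt_comul α (φ k b), ht k]; exact hs k α hα⟩
      clear ht
      induction t with
      | zero => exact ⟨∅, fun k α _ => by rw [map_zero, map_zero]; exact Ideal.zero_mem _⟩
      | tmul y z =>
        obtain ⟨sy, hy⟩ := ih y
        obtain ⟨sz, hz⟩ := ih z
        refine ⟨sy ∪ sz, fun k α hα => ?_⟩
        rw [Finset.coe_union, Set.image_union, Set.mem_union, not_or] at hα
        have h : (φ k y).coeff α * (φ k z).coeff α ∈ J ^ (i + i) := by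
          rw [pow_add]; exact Ideal.mul_mem_mul (hy k α hα.1) (hz k α hα.2)
        exact Ideal.pow_le_pow_right (by omega : i + 1 ≤ i + i) h
      | add t₁ t₂ ih₁ ih₂ =>
        obtain ⟨s₁, h₁⟩ := ih₁
        obtain ⟨s₂, h₂⟩ := ih₂
        refine ⟨s₁ ∪ s₂, fun k α hα => ?_⟩
        rw [Finset.coe_union, Set.image_union, Set.mem_union, not_or] at hα
        rw [map_add, map_add]
        exact Ideal.add_mem _ (h₁ k α hα.1) (h₂ k α hα.2)
  have hlim : ∀ b, ∃ x : MonoidAlgebra A G, ∀ k, x.mapDomain (π k) = φ k b := by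
    intro b
    obtain ⟨s, hs⟩ := hP n b
    refine exists_limit π hsep ρ hρ (fun k => φ k b) (fun j k h => hc j k h b) s fun k α hα => ?_
    have h := hs k α hα
    rw [hJ, Ideal.mem_bot] at h
    exact h
  choose x hx using hlim
  have hx' : ∀ k b, MonoidAlgebra.mapDomainAlgHom A A (π k) (x b) = φ k b := fun k b => hx b k
  have hext : ∀ {u v : MonoidAlgebra A G},
      (∀ k, MonoidAlgebra.mapDomainAlgHom A A (π k) u = MonoidAlgebra.mapDomainAlgHom A A (π k) v) → u = v :=
    fun h => ext_of_forall π hsep h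
  refine ⟨{ toFun := x, map_one' := hext fun k => ?_, map_mul' := fun a b => hext fun k => ?_,
            map_zero' := hext fun k => ?_, map_add' := fun a b => hext fun k => ?_,
            commutes' := fun r => hext fun k => ?_ }, fun k => AlgHom.ext fun b => hx' k b⟩
  · rw [hx', map_one, map_one]
  · rw [map_mul, hx', hx', hx', map_mul]
  · rw [hx', map_zero, map_zero]
  · rw [map_add, hx', hx', hx', map_add]
  · rw [hx', AlgHom.commutes, AlgHom.commutes]

end Groth.Agent.TorsLim
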