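import Groth.Agent.TorsLimLib.Chart
import Groth.Agent.TorsLimLib.Alg

/-!
# Homomorphisms from split tori are determined by, and exist from, their values on the torsion

Let `J` be a nilpotent ideal, `u₀` a homomorphism over `A ⧸ J` from a split group of multiplicative
type to an arbitrary group and `u k` compatible lifts of its restrictions to the finite quotients.
There is exactly one homomorphism `v` inducing all of them.
-/

set_option autoImplicit false
set_option linter.style.haveILetI false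
set_option backward.isDefEq.respectTransparency false
set_option maxHeartbeats 2000000
set_option synthInstance.maxHeartbeats 400000
set_option synthInstance.maxSize 4000
set_option maxSynthPendingDepth 4

noncomputable section

universe u

open CategoryTheory MonoidalCategory CartesianMonoidalCategory AlgebraicGeometry CoactBr WithConv
open scoped MonObj TensorProduct

attribute [-instance] CategoryTheory.Hom.commGroup

namespace Groth.Agent.TorsLim

attribute [local instance] CoactBr.braidedAlgSpecOf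

variable {A : Type u} [CommRing A] (J : Ideal A) {G : Over (Spec (CommRingCat.of A))} [GrpObj G]
  {M : Type} [CommGroup M] {N : ℕ → Type} [∀ k, CommGroup (N k)] (π : ∀ k, M →* N k)

/-- Reduced data form a homomorphism. -/
def IsHom₀ (u₀ : sp A (MonoidAlgebra (A ⧸ J) M) ⟶ G) : Prop :=
  ∀ (X : Over (Spec (CommRingCat.of A))) (x y z : X ⟶ sp A (MonoidAlgebra (A ⧸ J) M)),
    z ≫ pt (red J M) = (x ≫ pt (red J M)) * (y ≫ pt (red J M)) → z ≫ u₀ = (x ≫ u₀) * (y ≫ u₀)

theorem lift_mul_lift {X H K : Over (Spec (CommRingCat.of A))} [GrpObj H] [GrpObj K] (a a' : X ⟶ H) (b b' : X ⟶ K)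
    {Y : Over (Spec (CommRingCat.of A))} (g : Y ⟶ X) :
    g ≫ lift (a * a') (b * b') = lift ((g ≫ a) * (g ≫ a')) ((g ≫ b) * (g ≫ b')) := by
  rw [comp_lift, MonObj.comp_mul, MonObj.comp_mul]

set_option linter.unusedSectionVars false in
/-- **Homomorphisms from the torsion.** -/
theorem exists_hom {n : ℕ} (hn : n ≠ 0) (hJ : J ^ n = ⊥) (hsep : ∀ s : Finset M, ∃ k, ∀ l, k ≤ l → Set.InjOn (π l) s)
    (ρ : ∀ j k, j ≤ k → (N k →* N j)) (hρ : ∀ j k (h : j ≤ k), (ρ j k h).comp (π k) = π j)
    (u : ∀ k, sp A (MonoidAlgebra A (N k)) ⟶ G) (hu : ∀ k, IsMonHom (u k))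
    (hcoh : ∀ j k (h : j ≤ k), pt (push (A := A) A (ρ j k h)) ≫ u k = u j)
    (u₀ : sp A (MonoidAlgebra (A ⧸ J) M) ⟶ G) (hu₀ : IsHom₀ J u₀)
    (hred : ∀ k, pt (red J (N k)) ≫ u k = pt (push (A := A) (A ⧸ J) (π k)) ≫ u₀) :
    ∃ v : sp A (MonoidAlgebra A M) ⟶ G, IsMonHom v ∧ (∀ k, pt (push (A := A) A (π k)) ≫ v = u k) ∧
      pt (red J M) ≫ v = u₀ ∧
      ∀ v' : sp A (MonoidAlgebra A M) ⟶ G, (∀ k, pt (push (A := A) A (π k)) ≫ v' = u k) →
        pt (red J M) ≫ v' = u₀ → v' = v := by
  classical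
  let T : Over (Spec (CommRingCat.of A)) := sp A (MonoidAlgebra A M)
  let O : Type u := MonoidAlgebra (A ⧸ J) M
  let g0 : sp A O ⟶ T ⊗ G := lift (pt (red J M)) u₀
  haveI : IsImmersion g0.left := by
    haveI : IsClosedImmersion (pt (red J M)).left := isClosedImmersion_pt _ (red_surjective J M)
    haveI : IsImmersion (g0.left ≫ (fst T G).left) := by
      rw [← Over.comp_left, lift_fst]; infer_instance
    exact IsImmersion.of_comp g0.left (fst T G).left
  obtain ⟨B₂, _, _, ν₂, τ₂, hν₂, hτ₂, hτ₂s, hτ₂k, hr₂, hfac₂⟩ := exists_nbd g0 n hn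
  obtain ⟨B₃, _, _, ν₃, τ₃, hν₃, hτ₃, hτ₃s, -, hr₃, hfac₃⟩ := exists_nbd g0 (n + n) (by omega)
  haveI := hν₂; haveI := hν₃
  haveI : Mono ν₂ := Over.mono_of_mono_left ν₂
  haveI : Mono ν₃ := Over.mono_of_mono_left ν₃
  -- restriction between the neighbourhoods
  have hτ₂k3 : RingHom.ker τ₂.toRingHom ^ (n + n) = ⊥ := by
    rw [pow_add, hτ₂k, Ideal.bot_mul]
  obtain ⟨res, hres⟩ := hfac₃ B₂ O τ₂ hτ₂s hτ₂k3 ν₂ (𝟙 _) (by rw [Category.id_comp, hτ₂])
  have hress : Function.Surjective res := by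
    haveI : IsImmersion ((pt res).left ≫ ν₃.left) := by rw [← Over.comp_left, hres]; infer_instance
    haveI : IsImmersion (pt res).left := IsImmersion.of_comp (pt res).left ν₃.left
    have hsurj : Function.Surjective (pt res).left := fun p => by
      obtain ⟨q, hq⟩ := hr₃ (Set.mem_range_self (f := ν₃.left) p)
      refine ⟨(pt τ₂).left q, ν₃.left.isEmbedding.injective ?_⟩
      rw [← Scheme.Hom.comp_apply, ← Over.comp_left, hres, ← Scheme.Hom.comp_apply, ← Over.comp_left, hτ₂]
      exact hq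
    haveI : IsClosedImmersion (pt res).left := IsClosedImmersion.iff_isPreimmersion.2
      ⟨inferInstance, by rw [hsurj.range_eq]; exact isClosed_univ⟩
    haveI : IsAffine (sp A B₂).left := inferInstanceAs (IsAffine (Spec (CommRingCat.of B₂)))
    haveI : IsAffine (sp A B₃).left := inferInstanceAs (IsAffine (Spec (CommRingCat.of B₃)))
    have h : Function.Surjective ((Spec.map (CommRingCat.ofHom res.toRingHom)).appTop).hom :=
      (IsClosedImmersion.isAffine_surjective_of_isAffine (f := (pt res).left)).2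
    intro c
    obtain ⟨y, hy⟩ := h ((Scheme.ΓSpecIso (CommRingCat.of B₂)).inv.hom c)
    refine ⟨(Scheme.ΓSpecIso (CommRingCat.of B₃)).hom.hom y, ?_⟩
    have h2 := congrArg (fun r => r.hom y) (Scheme.ΓSpecIso_naturality (CommRingCat.ofHom res.toRingHom))
    simp only [CommRingCat.hom_comp, RingHom.comp_apply] at h2
    refine h2.symm.trans ?_
    rw [hy, ← RingHom.comp_apply, ← CommRingCat.hom_comp, Iso.inv_hom_id]
    rfl
  -- the functions of the graphs on the torsion
  let gk : ∀ k, sp A (MonoidAlgebra A (N k)) ⟶ T ⊗ G := fun k => lift (pt (push (A := A) A (π k))) (u k)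
  have hgk : ∀ k, pt (push (A := A) (A ⧸ J) (π k)) ≫ g0 = pt (red J (N k)) ≫ gk k := fun k => by
    simp only [g0, gk, comp_lift]
    rw [hred k, ← pt_comp, ← pt_comp, red_push]
  choose φ hφ using fun k => hfac₂ _ _ (red J (N k)) (red_surjective J (N k)) (ker_red_pow J hJ (N k)) (gk k)
    (pt (push (A := A) (A ⧸ J) (π k))) (hgk k)
  have hc : ∀ j k (h : j ≤ k) (b : B₂), (φ k b).mapDomain (ρ j k h) = φ j b := by
    intro j k h b
    have e : (push (A := A) A (ρ j k h)).comp (φ k) = φ j := pt_injective ((cancel_mono ν₂).1 (by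
      rw [pt_comp, Category.assoc, hφ, hφ]
      simp only [gk, comp_lift]
      rw [hcoh j k h, ← pt_comp, push_comp, hρ]))
    exact DFunLike.congr_fun e b
  have hφred : ∀ k, (red J (N k)).comp (φ k) = (push (A := A) (A ⧸ J) (π k)).comp τ₂ := fun k =>
    pt_injective ((cancel_mono ν₂).1 (by rw [pt_comp, pt_comp, Category.assoc, Category.assoc, hφ, hτ₂, hgk]))
  have hr : ∀ k b, (φ k b).map (Ideal.Quotient.mk J).toAddMonoidHom = (τ₂ b).mapDomain (π k) := fun k b => by
    refine Eq.trans ?_ (DFunLike.congr_fun (hφred k) b)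
    exact MonoidAlgebra.ext (Finsupp.ext fun m => by
      rw [AlgHom.comp_apply, MonoidAlgebra.coeff_map, Finsupp.mapRange_apply, MonoidAlgebra.coeff_mapAlgHom]; rfl)
  -- the product
  let C : Type u := B₂ ⊗[A] B₂
  let iL : sp A C ⟶ sp A B₂ := pt Algebra.TensorProduct.includeLeft
  let iR : sp A C ⟶ sp A B₂ := pt Algebra.TensorProduct.includeRight
  let gμ : sp A C ⟶ T ⊗ G :=
    lift ((iL ≫ ν₂ ≫ fst T G) * (iR ≫ ν₂ ≫ fst T G)) ((iL ≫ ν₂ ≫ snd T G) * (iR ≫ ν₂ ≫ snd T G))
  let ψ₀ : C →ₐ[A] O ⊗[A] O := Algebra.TensorProduct.map τ₂ τ₂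
  have hψ₀s : Function.Surjective ψ₀ := TensorProduct.map_surjective hτ₂s hτ₂s
  have hψ₀k : RingHom.ker ψ₀.toRingHom ^ (n + n) = ⊥ := by
    have hk : RingHom.ker ψ₀.toRingHom =
        (RingHom.ker τ₂).map (Algebra.TensorProduct.includeLeft : B₂ →ₐ[A] C) ⊔
          (RingHom.ker τ₂).map (Algebra.TensorProduct.includeRight : B₂ →ₐ[A] C) :=
      Algebra.TensorProduct.map_ker τ₂ τ₂ hτ₂s hτ₂s
    have hτ : (RingHom.ker τ₂) ^ n = ⊥ := hτ₂k
    rw [hk]
    refine eq_bot_iff.2 ((Ideal.sup_pow_add_le_pow_sup_pow).trans ?_)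
    rw [← Ideal.map_pow, ← Ideal.map_pow, hτ, Ideal.map_bot, Ideal.map_bot, sup_idem]
  let zh : O →ₐ[A] O ⊗[A] O := (MonoidAlgebra.lift (A ⧸ J) (O ⊗[A] O) M
    { toFun := fun m => MonoidAlgebra.single m (1 : A ⧸ J) ⊗ₜ[A] MonoidAlgebra.single m (1 : A ⧸ J)
      map_one' := by rw [← MonoidAlgebra.one_def]; rfl
      map_mul' := fun a b => by
        rw [Algebra.TensorProduct.tmul_mul_tmul, MonoidAlgebra.single_mul_single, _root_.mul_one] }).restrictScalars A
  let oL : sp A (O ⊗[A] O) ⟶ sp A O := pt Algebra.TensorProduct.includeLeft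
  let oR : sp A (O ⊗[A] O) ⟶ sp A O := pt Algebra.TensorProduct.includeRight
  have hz : pt zh ≫ pt (red J M) = (oL ≫ pt (red J M)) * (oR ≫ pt (red J M)) := by
    rw [← pt_comp, ← pt_comp, ← pt_comp, DiagRep.pt_mul_conv]
    refine congrArg pt (AlgHom.toLinearMap_injective ((MonoidAlgebra.basis _ A).ext fun m => ?_))
    rw [MonoidAlgebra.basis_apply]
    show (zh.comp (red J M)) (MonoidAlgebra.single m (1 : A)) =
      (toConv ((Algebra.TensorProduct.includeLeft : O →ₐ[A] O ⊗[A] O).comp (red J M)) *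
        toConv ((Algebra.TensorProduct.includeRight : O →ₐ[A] O ⊗[A] O).comp (red J M))) (MonoidAlgebra.single m 1)
    rw [MonoidAlgebra.convMul_algHom_single_one]
    have e : red J M (MonoidAlgebra.single m (1 : A)) = MonoidAlgebra.single m (1 : A ⧸ J) :=
      (MonoidAlgebra.mapAlgHom_single _ _ _).trans (congrArg _ (map_one _))
    show zh (red J M (MonoidAlgebra.single m (1 : A))) =
      (red J M (MonoidAlgebra.single m (1 : A)) ⊗ₜ[A] (1 : O)) * ((1 : O) ⊗ₜ[A] red J M (MonoidAlgebra.single m (1 : A)))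
    rw [e, Algebra.TensorProduct.tmul_mul_tmul, _root_.mul_one, _root_.one_mul]
    exact (MonoidAlgebra.lift_single _ _ _).trans (one_smul _ _)
  have hL : pt ψ₀ ≫ iL = oL ≫ pt τ₂ := by
    rw [← pt_comp, ← pt_comp]; exact congrArg pt (Algebra.TensorProduct.map_comp_includeLeft τ₂ τ₂)
  have hR : pt ψ₀ ≫ iR = oR ≫ pt τ₂ := by
    rw [← pt_comp, ← pt_comp]; exact congrArg pt (Algebra.TensorProduct.map_comp_includeRight τ₂ τ₂)
  have hgμ : pt zh ≫ g0 = pt ψ₀ ≫ gμ := by
    simp only [gμ]
    rw [lift_mul_lift]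
    simp only [reassoc_of% hL, reassoc_of% hR, reassoc_of% hτ₂, g0, comp_lift, lift_fst, lift_snd]
    rw [hu₀ _ oL oR (pt zh) hz, hz]
  obtain ⟨μ₂₃, hμ⟩ := hfac₃ C _ ψ₀ hψ₀s hψ₀k gμ (pt zh) hgμ
  have hgkμ : ∀ k, (Bialgebra.comulAlgHom A (MonoidAlgebra A (N k))).comp ((φ k).comp res) =
      (Algebra.TensorProduct.map (φ k) (φ k)).comp μ₂₃ := by
    intro k
    haveI := hu k
    haveI := isMonHom_push (A := A) (π k)
    refine pt_injective ((cancel_mono ν₃).1 ?_)
    rw [pt_comp, pt_comp, pt_comp, Category.assoc, Category.assoc, Category.assoc, hres, hμ, hφ]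
    simp only [gμ]
    rw [lift_mul_lift]
    simp only [gk, comp_lift, pt_comul, MonObj.mul_comp]
    have hL' : pt (Algebra.TensorProduct.map (φ k) (φ k)) ≫ iL = pt Algebra.TensorProduct.includeLeft ≫ pt (φ k) := by
      rw [← pt_comp, ← pt_comp]; exact congrArg pt (Algebra.TensorProduct.map_comp_includeLeft (φ k) (φ k))
    have hR' : pt (Algebra.TensorProduct.map (φ k) (φ k)) ≫ iR = pt Algebra.TensorProduct.includeRight ≫ pt (φ k) := by
      rw [← pt_comp, ← pt_comp]; exact congrArg pt (Algebra.TensorProduct.map_comp_includeRight (φ k) (φ k))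
    simp only [reassoc_of% hL', reassoc_of% hR', reassoc_of% (hφ k), gk, lift_fst, lift_snd]
  obtain ⟨ψ, hψ⟩ := exists_algHom π hsep ρ hρ hJ φ hc (fun b => τ₂ b) hr fun b => by
    obtain ⟨f, rfl⟩ := hress b
    exact ⟨μ₂₃ f, fun k => DFunLike.congr_fun (hgkμ k) f⟩
  let g : T ⟶ T ⊗ G := pt ψ ≫ ν₂
  have hgπ : ∀ k, pt (push (A := A) A (π k)) ≫ g = gk k := fun k => by
    simp only [g]
    rw [← Category.assoc, ← pt_comp, show (push (A := A) A (π k)).comp ψ = φ k from hψ k, hφ]
  have hgfst : g ≫ fst T G = 𝟙 T := by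
    obtain ⟨f, hf⟩ := DiagRep.exists_pt (g ≫ fst T G)
    rw [hf, ← pt_id]
    refine congrArg pt (AlgHom.ext fun x => ext_of_forall π hsep fun k => ?_)
    have h : (push (A := A) A (π k)).comp f = push (A := A) A (π k) := pt_injective (by
      rw [pt_comp, ← hf, ← Category.assoc, hgπ]
      exact lift_fst _ _)
    exact DFunLike.congr_fun h x
  have hgred : pt (red J M) ≫ g = g0 := by
    rw [← hτ₂]
    simp only [g]
    rw [← Category.assoc, ← pt_comp]
    refine congrArg (· ≫ ν₂) (congrArg pt (AlgHom.ext fun b => ext_of_forall π hsep fun k => ?_))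
    refine Eq.trans ?_ (DFunLike.congr_fun (hφred k) b)
    rw [← hψ k]
    exact (DFunLike.congr_fun (red_push J (π k)) (ψ b)).symm
  refine ⟨g ≫ snd T G, ?_, fun k => ?_, ?_, fun v' h1 h2 => ?_⟩
  · -- multiplicativity
    let P : Type u := MonoidAlgebra A M ⊗[A] MonoidAlgebra A M
    let pL : sp A P ⟶ T := pt Algebra.TensorProduct.includeLeft
    let pR : sp A P ⟶ T := pt Algebra.TensorProduct.includeRight
    have huniv : (Bialgebra.comulAlgHom A (MonoidAlgebra A M)).comp (ψ.comp res) =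
        (Algebra.TensorProduct.map ψ ψ).comp μ₂₃ := by
      refine AlgHom.ext fun b => ext₂_of_forall π hsep fun k => ?_
      have h1 : ∀ (x : MonoidAlgebra A M),
          Algebra.TensorProduct.map (push (A := A) A (π k)) (push (A := A) A (π k))
            (Bialgebra.comulAlgHom A (MonoidAlgebra A M) x) =
          Bialgebra.comulAlgHom A (MonoidAlgebra A (N k)) (push (A := A) A (π k) x) := fun x => by
        have e : (Algebra.TensorProduct.map (push (A := A) A (π k)) (push (A := A) A (π k))).comp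
            (Bialgebra.comulAlgHom A (MonoidAlgebra A M)) =
            (Bialgebra.comulAlgHom A (MonoidAlgebra A (N k))).comp (push (A := A) A (π k)) :=
          AlgHom.toLinearMap_injective ((MonoidAlgebra.basis _ A).ext fun m => by
            simp [Bialgebra.comulAlgHom_apply])
        exact DFunLike.congr_fun e x
      rw [AlgHom.comp_apply, AlgHom.comp_apply, AlgHom.comp_apply, h1]
      refine Eq.trans (b := (Algebra.TensorProduct.map (φ k) (φ k)) (μ₂₃ b)) ?_ ?_
      · refine Eq.trans ?_ (DFunLike.congr_fun (hgkμ k) b)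
        exact congrArg (Bialgebra.comulAlgHom A (MonoidAlgebra A (N k))) (DFunLike.congr_fun (hψ k) (res b))
      · rw [← hψ k, Algebra.TensorProduct.map_comp]
        rfl
    have hmul : (pL * pR) ≫ g ≫ snd T G = (pL ≫ g ≫ snd T G) * (pR ≫ g ≫ snd T G) := by
      have h := congrArg (fun f => (pt f ≫ ν₃) ≫ snd T G) huniv
      simp only [pt_comp, Category.assoc, reassoc_of% hres, reassoc_of% hμ, gμ, lift_snd, MonObj.comp_mul,
        pt_comul] at h
      refine h.trans ?_
      have hL' : pt (Algebra.TensorProduct.map ψ ψ) ≫ iL = pL ≫ pt ψ := by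
        rw [← pt_comp, ← pt_comp]; exact congrArg pt (Algebra.TensorProduct.map_comp_includeLeft ψ ψ)
      have hR' : pt (Algebra.TensorProduct.map ψ ψ) ≫ iR = pR ≫ pt ψ := by
        rw [← pt_comp, ← pt_comp]; exact congrArg pt (Algebra.TensorProduct.map_comp_includeRight ψ ψ)
      rw [reassoc_of% hL', reassoc_of% hR']
      simp only [g, Category.assoc]
    have key : ∀ {X : Over (Spec (CommRingCat.of A))} (x y : X ⟶ T),
        (x * y) ≫ g ≫ snd T G = (x ≫ g ≫ snd T G) * (y ≫ g ≫ snd T G) := by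
      intro X x y
      letI := RCentre.algΓ X
      let pair : sp A Γ(X.left, ⊤) ⟶ sp A P :=
        pt (Algebra.TensorProduct.lift (RCentre.fn x) (RCentre.fn y) fun _ _ => Commute.all _ _)
      have hx : (RCentre.toSp X ≫ pair) ≫ pL = x := by
        rw [Category.assoc, ← pt_comp]
        refine Eq.trans ?_ (RCentre.toSp_fn x)
        exact congrArg (fun f => RCentre.toSp X ≫ pt f) (Algebra.TensorProduct.lift_comp_includeLeft _ _ _)
      have hy : (RCentre.toSp X ≫ pair) ≫ pR = y := by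
        rw [Category.assoc, ← pt_comp]
        refine Eq.trans ?_ (RCentre.toSp_fn y)
        exact congrArg (fun f => RCentre.toSp X ≫ pt f) (Algebra.TensorProduct.lift_comp_includeRight (RCentre.fn x) (RCentre.fn y) fun _ _ => Commute.all _ _)
      have h := congrArg ((RCentre.toSp X ≫ pair) ≫ ·) hmul
      simp only [MonObj.comp_mul] at h
      rw [← Category.assoc _ (pL * pR), MonObj.comp_mul, ← Category.assoc _ pL, ← Category.assoc _ pR, hx, hy] at h
      exact h
    refine { one_hom := ?_, mul_hom := ?_ }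
    · have h1 : ((1 : 𝟙_ (Over (Spec (CommRingCat.of A))) ⟶ T) ≫ g ≫ snd T G) = 1 := by
        have h := key (1 : 𝟙_ (Over (Spec (CommRingCat.of A))) ⟶ T) 1
        rw [_root_.mul_one] at h
        exact mul_left_cancel (h.symm.trans (_root_.mul_one _).symm)
      simpa [Hom.one_def] using h1
    · have h := key (fst T T) (snd T T)
      rw [show μ[T] = fst T T * snd T T by rw [Hom.mul_def, lift_fst_snd, Category.id_comp], h, Hom.mul_def]
      congr 1
  · rw [← Category.assoc, hgπ]
    simp only [gk, lift_snd]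
  · rw [← Category.assoc, hgred]
    simp only [g0, lift_snd]
  · let g' : T ⟶ T ⊗ G := lift (𝟙 T) v'
    obtain ⟨ψ', hψ'⟩ := hfac₂ _ _ (red J M) (red_surjective J M) (ker_red_pow J hJ M) g' (𝟙 _) (by
      simp only [g', g0, comp_lift, Category.id_comp]
      rw [h2]
      exact congrArg₂ lift (Category.comp_id _).symm rfl)
    have he : ψ' = ψ := AlgHom.ext fun b => ext_of_forall π hsep fun k => by
      have e : (push (A := A) A (π k)).comp ψ' = φ k := pt_injective ((cancel_mono ν₂).1 (by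
        rw [pt_comp, Category.assoc, hψ', hφ]
        simp only [g', gk, comp_lift]
        rw [h1 k]
        exact congrArg₂ lift (Category.comp_id _) rfl))
      exact (DFunLike.congr_fun e b).trans (DFunLike.congr_fun (hψ k) b).symm
    show v' = (pt ψ ≫ ν₂) ≫ snd T G
    rw [← he, hψ']
    simp only [g', lift_snd]

end Groth.Agent.TorsLim
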